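import Cfsg.Prelude.Def_Classical
import Cfsg.Agent.EqLemmas
import Mathlib.LinearAlgebra.Matrix.Charpoly.Coeff

/-!
The element orders of `PSp₄(3)`: a symplectic matrix over `ZMod 3` has a self-reciprocal
characteristic polynomial, whence its fifth, ninth or twelfth power is `±1`.
-/

set_option autoImplicit false
set_option maxRecDepth 4000

namespace Cfsg.Agent.SpectrumPSp

open Matrix Polynomial

/-- The prime field. -/
abbrev F3 := ZMod 3

/-- `4 × 4` matrices in block indexing. -/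
abbrev M4 := Matrix (Fin 2 ⊕ Fin 2) (Fin 2 ⊕ Fin 2) F3

/-- `Sp₄(3)`. -/
abbrev Sp43 := ↥(Matrix.symplecticGroup (Fin 2) F3)

/-- Multiplication by `X` modulo `X⁴ + c₃X³ + c₂X² + c₁X + c₀`, in coordinates. -/
def step (c v : F3 × F3 × F3 × F3) : F3 × F3 × F3 × F3 :=
  (-(c.1 * v.2.2.2), v.1 - c.2.1 * v.2.2.2, v.2.1 - c.2.2.1 * v.2.2.2, v.2.2.1 - c.2.2.2 * v.2.2.2)

/-- The matrix with given coordinates in the powers of `A`. -/
def ev (A : M4) (v : F3 × F3 × F3 × F3) : M4 :=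
  v.1 • (1 : M4) + v.2.1 • A + v.2.2.1 • (A * A) + v.2.2.2 • (A * A * A)

theorem mul_ev (A : M4) (c v : F3 × F3 × F3 × F3)
    (h : A * A * A * A + c.2.2.2 • (A * A * A) + c.2.2.1 • (A * A) + c.2.1 • A + c.1 • (1 : M4) = 0) :
    A * ev A v = ev A (step c v) := by
  have h4 : A * A * A * A = -(c.2.2.2 • (A * A * A) + c.2.2.1 • (A * A) + c.2.1 • A + c.1 • (1 : M4)) := by
    rw [eq_neg_iff_add_eq_zero]; simpa [add_assoc] using h
  simp only [ev, step, mul_add, mul_smul_comm, mul_one, ← mul_assoc, h4]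
  module

theorem pow_eq_ev (A : M4) (c : F3 × F3 × F3 × F3)
    (h : A * A * A * A + c.2.2.2 • (A * A * A) + c.2.2.1 • (A * A) + c.2.1 • A + c.1 • (1 : M4) = 0) (n : ℕ) :
    A ^ n = ev A ((step c)^[n] (1, 0, 0, 0)) := by
  induction n with
  | zero => simp [ev]
  | succ n ih => rw [pow_succ', ih, mul_ev A c _ h, Function.iterate_succ_apply']

theorem key : ∀ d c₀ c₁ c₂ c₃ : F3, 1 = d * c₀ → c₃ = d * c₁ → c₂ = d * c₂ → c₁ = d * c₃ →
    ∃ n ∈ ([5, 9, 12] : List ℕ),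
      (step (c₀, c₁, c₂, c₃))^[n] (1, 0, 0, 0) = (1, 0, 0, 0) ∨
      (step (c₀, c₁, c₂, c₃))^[n] (1, 0, 0, 0) = (-1, 0, 0, 0) := by
  decide +kernel

theorem charpoly_inv_eq (A : Sp43) : (A.1⁻¹).charpoly = A.1.charpoly := by
  have hu : (-Matrix.J (Fin 2) F3) * Matrix.J (Fin 2) F3 = 1 := by
    rw [neg_mul, Matrix.J_squared, neg_neg]
  have hu' : Matrix.J (Fin 2) F3 * (-Matrix.J (Fin 2) F3) = 1 := by
    rw [mul_neg, Matrix.J_squared, neg_neg]
  rw [SymplecticGroup.inv_eq_symplectic_inv A.1 A.2]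
  have := Matrix.charpoly_units_conj (⟨-Matrix.J (Fin 2) F3, Matrix.J (Fin 2) F3, hu, hu'⟩ : M4ˣ) A.1ᵀ
  rw [← Matrix.coe_units_inv] at this
  exact this.trans (Matrix.charpoly_transpose A.1)

theorem pow_eq_one_or_neg (A : Sp43) :
    ∃ n ∈ ([5, 9, 12] : List ℕ), A.1 ^ n = 1 ∨ A.1 ^ n = -1 := by
  have hA : IsUnit A.1 := (Matrix.isUnit_iff_isUnit_det _).2 (SymplecticGroup.symplectic_det A.2)
  set P := A.1.charpoly with hP
  have hdeg : P.natDegree = 4 := by rw [hP, Matrix.charpoly_natDegree_eq_dim]; rfl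
  have h4 : P.coeff 4 = 1 := by rw [← hdeg]; exact A.1.charpoly_monic
  have hrel : ∀ k ≤ 4, P.coeff k = Ring.inverse A.1.det * P.coeff (4 - k) := by
    intro k hk
    have h := congrArg (fun Q : F3[X] => Q.coeff k)
      ((charpoly_inv_eq A).symm.trans (Matrix.charpoly_inv A.1 hA))
    rw [← hP, ← Matrix.reverse_charpoly, ← hP] at h
    have e : (-1 : F3[X]) ^ Fintype.card (Fin 2 ⊕ Fin 2) = 1 := by
      simp [show Fintype.card (Fin 2 ⊕ Fin 2) = 4 from rfl]; norm_num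
    simp only [e, one_mul, coeff_C_mul, coeff_reverse, hdeg, revAt_le hk] at h
    exact h
  have hCH : A.1 * A.1 * A.1 * A.1 + P.coeff 3 • (A.1 * A.1 * A.1) + P.coeff 2 • (A.1 * A.1) +
      P.coeff 1 • A.1 + P.coeff 0 • (1 : M4) = 0 := by
    have h := Matrix.aeval_self_charpoly A.1
    rw [← hP, aeval_eq_sum_range, hdeg] at h
    simp only [Finset.sum_range_succ, Finset.sum_range_zero, h4, one_smul, pow_succ, pow_zero, one_mul] at h
    rw [← h]; abel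
  obtain ⟨n, hn, hcase⟩ := key (Ring.inverse A.1.det) (P.coeff 0) (P.coeff 1) (P.coeff 2) (P.coeff 3)
    (by have := hrel 4 le_rfl; rwa [h4] at this) (hrel 3 (by norm_num)) (hrel 2 (by norm_num))
    (hrel 1 (by norm_num))
  refine ⟨n, hn, ?_⟩
  rw [pow_eq_ev A.1 (P.coeff 0, P.coeff 1, P.coeff 2, P.coeff 3) hCH n]
  rcases hcase with h | h <;> rw [h] <;> simp [ev]

theorem mem_center_of_pm {A : Sp43} (h : A.1 = 1 ∨ A.1 = -1) : A ∈ Subgroup.center Sp43 := by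
  rw [Subgroup.mem_center_iff]
  intro B
  apply Subtype.ext
  show B.1 * A.1 = A.1 * B.1
  rcases h with h | h <;> rw [h] <;> simp

theorem coe_pow (A : Sp43) (n : ℕ) : (A ^ n).1 = A.1 ^ n := SubmonoidClass.coe_pow A n

theorem mk_pow_eq_one {A : Sp43} {n : ℕ} (h : A.1 ^ n = 1 ∨ A.1 ^ n = -1) :
    (QuotientGroup.mk A : Cfsg.PSp 2 F3) ^ n = 1 := by
  rw [← QuotientGroup.mk_pow, QuotientGroup.eq_one_iff]
  exact mem_center_of_pm (by rwa [coe_pow])

theorem orderOf_dvd_psp (x : Cfsg.PSp 2 F3) : orderOf x ∣ 5 ∨ orderOf x ∣ 9 ∨ orderOf x ∣ 12 := by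
  obtain ⟨A, rfl⟩ := QuotientGroup.mk_surjective x
  obtain ⟨n, hn, h⟩ := pow_eq_one_or_neg A
  have := orderOf_dvd_of_pow_eq_one (mk_pow_eq_one h)
  simp only [List.mem_cons, List.not_mem_nil, or_false] at hn
  rcases hn with rfl | rfl | rfl
  exacts [Or.inl this, Or.inr (Or.inl this), Or.inr (Or.inr this)]

/-- Witnesses. -/
def m4 : M4 := fromBlocks !![0, 0; 0, 1] !![1, 0; 0, 0] !![2, 0; 0, 0] !![0, 0; 0, 1]

/-- An element of order five. -/
def m5 : M4 := fromBlocks !![0, 0; 0, 0] !![1, 1; 0, 1] !![2, 0; 1, 2] !![0, 0; 0, 2]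

/-- An element of order nine. -/
def m9 : M4 := fromBlocks !![0, 1; 0, 2] !![0, 0; 2, 0] !![1, 0; 1, 0] !![0, 1; 0, 0]

/-- An element of order twelve. -/
def m12 : M4 := fromBlocks !![1, 0; 0, 0] !![1, 0; 0, 2] !![0, 0; 0, 1] !![1, 0; 0, 0]

theorem m4_mem : m4 ∈ Matrix.symplecticGroup (Fin 2) F3 := by
  rw [SymplecticGroup.mem_iff]; decide +kernel

theorem m5_mem : m5 ∈ Matrix.symplecticGroup (Fin 2) F3 := by
  rw [SymplecticGroup.mem_iff]; decide +kernel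

theorem m9_mem : m9 ∈ Matrix.symplecticGroup (Fin 2) F3 := by
  rw [SymplecticGroup.mem_iff]; decide +kernel

theorem m12_mem : m12 ∈ Matrix.symplecticGroup (Fin 2) F3 := by
  rw [SymplecticGroup.mem_iff]; decide +kernel

theorem mk_pow_ne_one {A B : Sp43} {n : ℕ} (h : A.1 ^ n * B.1 ≠ B.1 * A.1 ^ n) :
    (QuotientGroup.mk A : Cfsg.PSp 2 F3) ^ n ≠ 1 := by
  rw [← QuotientGroup.mk_pow, Ne, QuotientGroup.eq_one_iff, Subgroup.mem_center_iff]
  intro hc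
  have := congrArg Subtype.val (hc B)
  rw [← coe_pow] at h
  exact h this.symm

theorem exists_orders_psp : (∃ x : Cfsg.PSp 2 F3, orderOf x = 5) ∧ (∃ x : Cfsg.PSp 2 F3, orderOf x = 9) ∧
    ∃ x : Cfsg.PSp 2 F3, orderOf x = 12 := by
  haveI : Fact (Nat.Prime 3) := ⟨by norm_num⟩
  haveI : Fact (Nat.Prime 5) := ⟨by norm_num⟩
  refine ⟨⟨QuotientGroup.mk (⟨m5, m5_mem⟩ : Sp43), ?_⟩, ⟨QuotientGroup.mk (⟨m9, m9_mem⟩ : Sp43), ?_⟩,
    ⟨QuotientGroup.mk (⟨m12, m12_mem⟩ : Sp43), ?_⟩⟩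
  · refine orderOf_eq_prime (mk_pow_eq_one (by decide +kernel)) ?_
    rw [← pow_one (QuotientGroup.mk _)]
    exact mk_pow_ne_one (B := ⟨m4, m4_mem⟩) (by decide +kernel)
  · refine (orderOf_eq_prime_pow (p := 3) (n := 1) ?_ (mk_pow_eq_one (by decide +kernel))).trans (by norm_num)
    exact mk_pow_ne_one (B := ⟨m5, m5_mem⟩) (by decide +kernel)
  · rw [orderOf_eq_iff (by norm_num)]
    refine ⟨mk_pow_eq_one (by decide +kernel), fun m hm hm0 e => ?_⟩
    have h12 := mk_pow_eq_one (A := (⟨m12, m12_mem⟩ : Sp43)) (n := 12) (by decide +kernel)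
    have hd : orderOf (QuotientGroup.mk (⟨m12, m12_mem⟩ : Sp43) : Cfsg.PSp 2 F3) ∣ Nat.gcd m 12 :=
      Nat.dvd_gcd (orderOf_dvd_of_pow_eq_one e) (orderOf_dvd_of_pow_eq_one h12)
    have h6 := mk_pow_ne_one (A := (⟨m12, m12_mem⟩ : Sp43)) (B := ⟨m5, m5_mem⟩) (n := 6) (by decide +kernel)
    have h4 := mk_pow_ne_one (A := (⟨m12, m12_mem⟩ : Sp43)) (B := ⟨m5, m5_mem⟩) (n := 4) (by decide +kernel)
    have hg : Nat.gcd m 12 ∣ 6 ∨ Nat.gcd m 12 ∣ 4 := by interval_cases m <;> decide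
    rcases hg with hg | hg
    · exact h6 (orderOf_dvd_iff_pow_eq_one.1 (hd.trans hg))
    · exact h4 (orderOf_dvd_iff_pow_eq_one.1 (hd.trans hg))

/-- The element orders determined by the maximal ones. -/
theorem range_orderOf_eq {H : Type*} [Group H] (hup : ∀ x : H, orderOf x ∣ 5 ∨ orderOf x ∣ 9 ∨ orderOf x ∣ 12)
    (hlow : (∃ x : H, orderOf x = 5) ∧ (∃ x : H, orderOf x = 9) ∧ ∃ x : H, orderOf x = 12) :
    Set.range (orderOf : H → ℕ) = {n | n ∣ 5 ∨ n ∣ 9 ∨ n ∣ 12} := by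
  ext n
  constructor
  · rintro ⟨x, rfl⟩; exact hup x
  · intro h
    have key : ∀ {N : ℕ}, 0 < N → (∃ x : H, orderOf x = N) → n ∣ N → n ∈ Set.range (orderOf : H → ℕ) := by
      rintro N hN ⟨x, rfl⟩ hn
      exact ⟨x ^ (orderOf x / n), orderOf_pow_orderOf_div hN.ne' hn⟩
    rcases h with h | h | h
    exacts [key (by norm_num) hlow.1 h, key (by norm_num) hlow.2.1 h, key (by norm_num) hlow.2.2 h]

end Cfsg.Agent.SpectrumPSp
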