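import Cfsg.Agent.EqLemmas
import Mathlib.FieldTheory.Finite.GaloisField
import Mathlib.FieldTheory.Finite.Basic
import Mathlib.FieldTheory.Perfect
import Mathlib.GroupTheory.SemidirectProduct
import Mathlib.GroupTheory.Solvable
import Mathlib.RingTheory.RootsOfUnity.Basic

/-!
A solvable group with the element orders of `PSp₄(3)`: a group of order `81^8` and class three
(a central difference of two unitriangular `4 × 4` matrices over the field with 81 elements),
extended by `5 : 4`.
-/

set_option autoImplicit false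

namespace Cfsg.Agent.SpectrumPSp

variable (K : Type*) [Field K] [CharP K 3]

/-- The ninth power map. -/
noncomputable def sg : K →+* K := iterateFrobenius K 3 2

theorem sg_apply (x : K) : sg K x = x ^ 9 := by
  simp [sg, iterateFrobenius_def]

/-- Two unitriangular matrices with superdiagonals `(x, z, σ y)`, `(σ x, z, y)`, and the difference
of their corners. -/
@[ext]
structure Elt where
  x : K
  y : K
  z : K
  p : K
  q : K
  r : K
  s : K
  c : K

variable {K}

noncomputable instance : Mul (Elt K) := ⟨fun a b =>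
  ⟨a.x + b.x, a.y + b.y, a.z + b.z, a.p + b.p + a.x * b.z, a.q + b.q + a.z * sg K b.y,
    a.r + b.r + sg K a.x * b.z, a.s + b.s + a.z * b.y,
    a.c + b.c + a.x * b.q + a.p * sg K b.y - sg K a.x * b.s - a.r * b.y⟩⟩

noncomputable instance : One (Elt K) := ⟨⟨0, 0, 0, 0, 0, 0, 0, 0⟩⟩

noncomputable instance : Inv (Elt K) := ⟨fun a =>
  ⟨-a.x, -a.y, -a.z, -a.p + a.x * a.z, -a.q + a.z * sg K a.y, -a.r + sg K a.x * a.z,
    -a.s + a.z * a.y,
    -a.c - a.x * (-a.q + a.z * sg K a.y) + a.p * sg K a.y + sg K a.x * (-a.s + a.z * a.y) - a.r * a.y⟩⟩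

theorem mul_def (a b : Elt K) : a * b =
  ⟨a.x + b.x, a.y + b.y, a.z + b.z, a.p + b.p + a.x * b.z, a.q + b.q + a.z * sg K b.y,
    a.r + b.r + sg K a.x * b.z, a.s + b.s + a.z * b.y,
    a.c + b.c + a.x * b.q + a.p * sg K b.y - sg K a.x * b.s - a.r * b.y⟩ := rfl

theorem one_def : (1 : Elt K) = ⟨0, 0, 0, 0, 0, 0, 0, 0⟩ := rfl

theorem inv_def (a : Elt K) : a⁻¹ =
  ⟨-a.x, -a.y, -a.z, -a.p + a.x * a.z, -a.q + a.z * sg K a.y, -a.r + sg K a.x * a.z,
    -a.s + a.z * a.y,
    -a.c - a.x * (-a.q + a.z * sg K a.y) + a.p * sg K a.y + sg K a.x * (-a.s + a.z * a.y) - a.r * a.y⟩ := rfl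

noncomputable instance : Group (Elt K) where
  mul_assoc a b d := by ext <;> simp [mul_def] <;> ring
  one_mul a := by ext <;> simp [mul_def, one_def]
  mul_one a := by ext <;> simp [mul_def, one_def]
  inv_mul_cancel a := by ext <;> simp [mul_def, one_def, inv_def] <;> ring

instance [Finite K] : Finite (Elt K) :=
  Finite.of_injective (fun a : Elt K => (a.x, a.y, a.z, a.p, a.q, a.r, a.s, a.c))
    (fun a b h => by simp only [Prod.mk.injEq] at h; ext <;> tauto)

theorem three_eq_zero : (3 : K) = 0 := by exact_mod_cast CharP.cast_eq_zero K 3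

/-- The corner of a cube. -/
noncomputable def cubeForm (a : Elt K) : K := a.z * (a.x * sg K a.y - sg K a.x * a.y)

theorem pow_three_eq (a : Elt K) : a ^ 3 = ⟨0, 0, 0, 0, 0, 0, 0, cubeForm a⟩ := by
  have h3 := three_eq_zero (K := K)
  rw [pow_three]
  ext <;> simp only [mul_def, cubeForm, map_add]
  · linear_combination a.x * h3
  · linear_combination a.y * h3
  · linear_combination a.z * h3
  · linear_combination (a.p + a.x * a.z) * h3
  · linear_combination (a.q + a.z * sg K a.y) * h3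
  · linear_combination (a.r + sg K a.x * a.z) * h3
  · linear_combination (a.s + a.z * a.y) * h3
  · linear_combination (a.c + a.x * a.q + a.p * sg K a.y - sg K a.x * a.s - a.r * a.y) * h3

theorem pow_nine (a : Elt K) : a ^ 9 = 1 := by
  rw [show 9 = 3 * 3 from rfl, pow_mul, pow_three_eq (a ^ 3), pow_three_eq a]
  simp [cubeForm, one_def]

theorem pow_three_eq_one_iff (a : Elt K) : a ^ 3 = 1 ↔ cubeForm a = 0 := by
  rw [pow_three_eq, one_def]
  simp [Elt.ext_iff]

/-- The fifth roots of unity. -/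
abbrev U (K : Type*) [Field K] : Subgroup Kˣ := rootsOfUnity 5 K

theorem U_pow (u : U K) : ((u : Kˣ) : K) ^ 5 = 1 := by
  have h := (mem_rootsOfUnity 5 (u : Kˣ)).1 u.2
  simpa using congrArg (fun w : Kˣ => (w : K)) h

theorem sg_U (u : U K) : sg K ((u : Kˣ) : K) = ((u : Kˣ) : K) ^ 4 := by
  rw [sg_apply, show (9 : ℕ) = 5 + 4 from rfl, pow_add, U_pow, one_mul]

/-- The scalar action, with weights `(1, 1, 2, 3, 6, 6, 3, 7)`. -/
noncomputable def scalEquiv (u : U K) : Elt K ≃* Elt K where
  toFun a := ⟨(u : Kˣ) * a.x, (u : Kˣ) * a.y, ((u : Kˣ) : K) ^ 2 * a.z, ((u : Kˣ) : K) ^ 3 * a.p,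
    ((u : Kˣ) : K) ^ 6 * a.q, ((u : Kˣ) : K) ^ 6 * a.r, ((u : Kˣ) : K) ^ 3 * a.s, ((u : Kˣ) : K) ^ 7 * a.c⟩
  invFun a := ⟨((u⁻¹ : U K) : Kˣ) * a.x, ((u⁻¹ : U K) : Kˣ) * a.y, (((u⁻¹ : U K) : Kˣ) : K) ^ 2 * a.z,
    (((u⁻¹ : U K) : Kˣ) : K) ^ 3 * a.p, (((u⁻¹ : U K) : Kˣ) : K) ^ 6 * a.q,
    (((u⁻¹ : U K) : Kˣ) : K) ^ 6 * a.r, (((u⁻¹ : U K) : Kˣ) : K) ^ 3 * a.s,
    (((u⁻¹ : U K) : Kˣ) : K) ^ 7 * a.c⟩
  left_inv a := by ext <;> simp [← mul_assoc, ← mul_pow]
  right_inv a := by ext <;> simp [← mul_assoc, ← mul_pow]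
  map_mul' a b := by ext <;> simp [mul_def, sg_U] <;> ring

/-- The scalar action as a homomorphism. -/
noncomputable def scal : U K →* MulAut (Elt K) where
  toFun := scalEquiv
  map_one' := by
    refine MulEquiv.ext fun a => ?_
    ext <;> simp [scalEquiv]
  map_mul' u v := by
    refine MulEquiv.ext fun a => ?_
    ext <;> simp [scalEquiv] <;> ring

theorem map_sg (τ : K ≃+* K) (x : K) : τ (sg K x) = sg K (τ x) := by
  rw [sg_apply, sg_apply, map_pow]

/-- Field automorphisms act componentwise. -/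
noncomputable def galEquiv (τ : K ≃+* K) : Elt K ≃* Elt K where
  toFun a := ⟨τ a.x, τ a.y, τ a.z, τ a.p, τ a.q, τ a.r, τ a.s, τ a.c⟩
  invFun a := ⟨τ.symm a.x, τ.symm a.y, τ.symm a.z, τ.symm a.p, τ.symm a.q, τ.symm a.r, τ.symm a.s, τ.symm a.c⟩
  left_inv a := by ext <;> simp
  right_inv a := by ext <;> simp
  map_mul' a b := by ext <;> simp [mul_def, map_sg]

/-- The action of the field automorphisms. -/
noncomputable def gal : (K ≃+* K) →* MulAut (Elt K) where
  toFun := galEquiv
  map_one' := by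
    refine MulEquiv.ext fun a => ?_
    ext <;> rfl
  map_mul' σ τ := by
    refine MulEquiv.ext fun a => ?_
    ext <;> rfl

/-- A field automorphism on the fifth roots of unity. -/
noncomputable def actUEquiv (τ : K ≃+* K) : U K ≃* U K where
  toFun u := ⟨Units.map (τ.toRingHom.toMonoidHom) (u : Kˣ), by
    rw [mem_rootsOfUnity, ← map_pow, (mem_rootsOfUnity 5 (u : Kˣ)).1 u.2, map_one]⟩
  invFun u := ⟨Units.map (τ.symm.toRingHom.toMonoidHom) (u : Kˣ), by
    rw [mem_rootsOfUnity, ← map_pow, (mem_rootsOfUnity 5 (u : Kˣ)).1 u.2, map_one]⟩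
  left_inv u := by
    apply Subtype.ext; apply Units.ext; simp
  right_inv u := by
    apply Subtype.ext; apply Units.ext; simp
  map_mul' u v := by
    apply Subtype.ext; apply Units.ext; simp

/-- Field automorphisms on the fifth roots of unity. -/
noncomputable def actU : (K ≃+* K) →* MulAut (U K) where
  toFun := actUEquiv
  map_one' := by
    refine MulEquiv.ext fun u => ?_
    apply Subtype.ext; apply Units.ext; rfl
  map_mul' σ τ := by
    refine MulEquiv.ext fun u => ?_
    apply Subtype.ext; apply Units.ext; rfl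

section finite

variable [Finite K]

/-- The Frobenius automorphism. -/
noncomputable def fr : K ≃+* K := frobeniusEquiv K 3

theorem fr_apply (x : K) : fr x = x ^ 3 := rfl

theorem fr_pow_apply (n : ℕ) (x : K) : ((fr (K := K)) ^ n) x = x ^ 3 ^ n := by
  induction n generalizing x with
  | zero => simp
  | succ n ih =>
    rw [pow_succ, RingAut.mul_apply, fr_apply, ih, ← pow_mul, pow_succ']

theorem fr_pow_four (h81 : Nat.card K = 81) : (fr (K := K)) ^ 4 = 1 := by
  haveI := Fintype.ofFinite K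
  refine RingEquiv.ext fun x => ?_
  rw [fr_pow_apply]
  show x ^ 3 ^ 4 = x
  have := FiniteField.pow_card x
  rwa [← Nat.card_eq_fintype_card, h81] at this

/-- The group `5 : 4`. -/
abbrev T (K : Type*) [Field K] [CharP K 3] [Finite K] :=
  SemidirectProduct (U K) (Subgroup.zpowers (fr (K := K)))
    ((actU (K := K)).comp (Subgroup.zpowers (fr (K := K))).subtype)

theorem compat (τ : Subgroup.zpowers (fr (K := K))) :
    (scal (K := K)).comp (((actU (K := K)).comp (Subgroup.zpowers (fr (K := K))).subtype) τ).toMonoidHom =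
      (MulAut.conj ((gal (K := K)).comp (Subgroup.zpowers (fr (K := K))).subtype τ)).toMonoidHom.comp
        (scal (K := K)) := by
  refine MonoidHom.ext fun u => MulEquiv.ext fun a => ?_
  obtain ⟨τ, hτ⟩ := τ
  show scalEquiv (actUEquiv τ u) a = galEquiv τ (scalEquiv u ((galEquiv τ).symm a))
  ext <;> simp [scalEquiv, galEquiv, actUEquiv]

/-- The action of `5 : 4`. -/
noncomputable def act : T K →* MulAut (Elt K) :=
  SemidirectProduct.lift (scal (K := K)) ((gal (K := K)).comp (Subgroup.zpowers (fr (K := K))).subtype)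
    compat

/-- The group. -/
abbrev Grp (K : Type*) [Field K] [CharP K 3] [Finite K] := SemidirectProduct (Elt K) (T K) (act (K := K))

end finite

end Cfsg.Agent.SpectrumPSp
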