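import Cfsg.Agent.Lib.SpectrumPSp.Group
import Mathlib.GroupTheory.PGroup
import Mathlib.RingTheory.IntegralDomain

/-!
Element orders and solvability of the group of `Lib/SpectrumPSp/Group`.
-/

set_option autoImplicit false

namespace Cfsg.Agent.SpectrumPSp

variable {K : Type*} [Field K] [CharP K 3] [Finite K]

theorem act_apply (t : T K) (a : Elt K) :
    act (K := K) t a = scalEquiv t.left (galEquiv (t.right : K ≃+* K) a) := rfl

theorem U_coe_eq_one {u : U K} (h : ((u : Kˣ) : K) = 1) : u = 1 :=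
  Subtype.ext (Units.ext h)

theorem U_pow_ne_one {u : U K} (hu : u ≠ 1) {k : ℕ} (hk : ¬ 5 ∣ k) : ((u : Kˣ) : K) ^ k ≠ 1 := by
  intro h
  haveI : Fact (Nat.Prime 5) := ⟨by norm_num⟩
  have ho : orderOf ((u : Kˣ) : K) = 5 :=
    orderOf_eq_prime (U_pow u) (fun e => hu (U_coe_eq_one e))
  exact hk (ho ▸ orderOf_dvd_of_pow_eq_one h)

/-- An element of `Grp K` commuting with an element of the kernel: the equation on the kernel. -/
theorem comm_eq {g : Grp K} {b : Elt K} (h : Commute g (SemidirectProduct.inl b)) :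
    g.left * act (K := K) g.right b = b * g.left := by
  have := congrArg (fun w : Grp K => w.left) h.eq
  simpa using this

theorem eq_one_of_fixed_scalar {g : Grp K} (hτ : g.right.right = 1) (hu : g.right.left ≠ 1) {b : Elt K}
    (h : Commute g (SemidirectProduct.inl b)) : b = 1 := by
  have e := comm_eq h
  obtain ⟨a, u, τ⟩ := g
  simp only at hτ hu e
  subst hτ
  rw [act_apply] at e
  have ev : ∀ {k : ℕ}, ¬ 5 ∣ k → ∀ {v : K}, ((u : Kˣ) : K) ^ k * v = v → v = 0 := by
    intro k hk v hv
    have : (((u : Kˣ) : K) ^ k - 1) * v = 0 := by rw [sub_mul, hv]; ring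
    rcases mul_eq_zero.1 this with h0 | h0
    · exact absurd (sub_eq_zero.1 h0) (U_pow_ne_one hu hk)
    · exact h0
  have ex := congrArg Elt.x e
  have ey := congrArg Elt.y e
  have ez := congrArg Elt.z e
  have ep := congrArg Elt.p e
  have eq' := congrArg Elt.q e
  have er := congrArg Elt.r e
  have es := congrArg Elt.s e
  have ec := congrArg Elt.c e
  simp [mul_def, scalEquiv, galEquiv] at ex ey ez ep eq' er es ec
  have bx : b.x = 0 := ev (k := 1) (by norm_num) (by linear_combination ex)
  have by' : b.y = 0 := ev (k := 1) (by norm_num) (by linear_combination ey)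
  have bz : b.z = 0 := ev (k := 2) (by norm_num) (by linear_combination ez)
  simp [bx, by', bz] at ep eq' er es ec
  have bp : b.p = 0 := ev (k := 3) (by norm_num) (by linear_combination ep)
  have bq : b.q = 0 := ev (k := 6) (by norm_num) (by linear_combination eq')
  have br : b.r = 0 := ev (k := 6) (by norm_num) (by linear_combination er)
  have bs : b.s = 0 := ev (k := 3) (by norm_num) (by linear_combination es)
  simp [bp, bq, br, bs] at ec
  have bc : b.c = 0 := ev (k := 7) (by norm_num) (by linear_combination ec)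
  rw [one_def]; ext <;> assumption

/-- A non-trivial element of `⟨fr⟩` moves every non-trivial fifth root of unity, and `σ` is a power
of it. -/
theorem zpowers_cases (h81 : Nat.card K = 81) {τ : K ≃+* K}
    (hτ : τ ∈ Subgroup.zpowers (fr (K := K))) (h1 : τ ≠ 1) :
    (∃ m : ℕ, ¬ 5 ∣ m ∧ ∀ x : K, x ≠ 0 → τ x = x * x ^ m) ∧
      ((∀ x : K, τ x = sg K x) ∨ ∀ x : K, τ (τ x) = sg K x) := by
  haveI := Fintype.ofFinite K
  have h81' : ∀ x : K, x ^ 81 = x := fun x => by
    have := FiniteField.pow_card x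
    rwa [← Nat.card_eq_fintype_card, h81] at this
  obtain ⟨k, rfl⟩ := Subgroup.mem_zpowers_iff.1 hτ
  have hk : (fr (K := K)) ^ k = (fr (K := K)) ^ (k % 4).toNat := by
    rw [← zpow_natCast, Int.toNat_of_nonneg (Int.emod_nonneg _ (by norm_num))]
    exact zpow_eq_zpow_emod' k (fr_pow_four h81)
  have hlt : (k % 4).toNat < 4 := by omega
  rw [hk] at h1 ⊢
  generalize (k % 4).toNat = n at h1 hlt ⊢
  interval_cases n
  · simp at h1
  · refine ⟨⟨2, by norm_num, fun x _ => ?_⟩, Or.inr fun x => ?_⟩
    · rw [fr_pow_apply]; ring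
    · rw [fr_pow_apply, fr_pow_apply, sg_apply, ← pow_mul]; norm_num
  · refine ⟨⟨8, by norm_num, fun x _ => ?_⟩, Or.inl fun x => ?_⟩
    · rw [fr_pow_apply]; ring
    · rw [fr_pow_apply, sg_apply]; norm_num
  · refine ⟨⟨26, by norm_num, fun x _ => ?_⟩, Or.inr fun x => ?_⟩
    · rw [fr_pow_apply]; ring
    · rw [fr_pow_apply, fr_pow_apply, sg_apply, ← pow_mul,
        show (3 ^ 3 * 3 ^ 3 : ℕ) = 81 * 9 from by norm_num, pow_mul, h81']

theorem pow_four_right (h81 : Nat.card K = 81) (t : T K) (h1 : t.right ≠ 1) : t ^ 4 = 1 := by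
  have hr : (t ^ 4).right = 1 := by
    have : (t ^ 4).right = t.right ^ 4 := map_pow (SemidirectProduct.rightHom : T K →* _) t 4
    rw [this]
    obtain ⟨τ, hτ⟩ := t.right
    obtain ⟨k, hk⟩ := Subgroup.mem_zpowers_iff.1 hτ
    refine Subtype.ext ?_
    show τ ^ 4 = 1
    rw [← hk, ← zpow_natCast, ← zpow_mul, mul_comm, zpow_mul, zpow_natCast, fr_pow_four h81, one_zpow]
  obtain ⟨v, hv⟩ : ∃ v, t ^ 4 = SemidirectProduct.inl v :=
    ⟨(t ^ 4).left, SemidirectProduct.ext (by simp) (by simpa using hr)⟩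
  have hc : Commute t (SemidirectProduct.inl v) := hv ▸ Commute.self_pow t 4
  have he := congrArg (fun w : T K => w.left) hc.eq
  simp at he
  obtain ⟨m, hm, hmx⟩ := (zpowers_cases h81 t.right.2 (fun e => h1 (Subtype.ext e))).1
  have hfix : (t.right : K ≃+* K) ((v : Kˣ) : K) = ((v : Kˣ) : K) := by
    have h2 : actUEquiv (t.right : K ≃+* K) v = v := by
      rw [mul_comm v t.left] at he
      exact mul_left_cancel he
    have := congrArg (fun w : U K => ((w : Kˣ) : K)) h2
    simpa [actUEquiv] using this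
  rw [hmx _ (Units.ne_zero _)] at hfix
  have h3 : ((v : Kˣ) : K) ^ m = 1 := mul_left_cancel₀ (Units.ne_zero (v : Kˣ)) (by rw [hfix, mul_one])
  have hv1 : v = 1 := by
    by_contra hne
    exact U_pow_ne_one hne hm h3
  rw [hv, hv1, map_one]

theorem cubeForm_eq_zero_of_fixed (h81 : Nat.card K = 81) {g : Grp K} (hτ : g.right.right ≠ 1) {b : Elt K}
    (h : Commute g (SemidirectProduct.inl b)) : cubeForm b = 0 := by
  have e := comm_eq h
  obtain ⟨a, u, τ⟩ := g
  simp only at hτ e
  rw [act_apply] at e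
  have ex := congrArg Elt.x e
  have ey := congrArg Elt.y e
  simp [mul_def, scalEquiv, galEquiv] at ex ey
  have hx : ((u : Kˣ) : K) * (τ : K ≃+* K) b.x = b.x := by linear_combination ex
  have hy : ((u : Kˣ) : K) * (τ : K ≃+* K) b.y = b.y := by linear_combination ey
  set σ : K ≃+* K := (τ : K ≃+* K) with hσ
  have key : σ b.x * b.y = b.x * σ b.y := by
    refine mul_left_cancel₀ (Units.ne_zero (u : Kˣ)) ?_
    linear_combination b.y * hx - b.x * hy
  have : b.x * sg K b.y - sg K b.x * b.y = 0 := by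
    rcases (zpowers_cases h81 τ.2 (fun e' => hτ (Subtype.ext e'))).2 with h2 | h2
    · rw [← hσ] at h2
      rw [← h2, ← h2]
      linear_combination (-1 : K) * key
    · rw [← hσ] at h2
      rw [← h2, ← h2]
      by_cases hy0 : b.y = 0
      · simp [hy0]
      have hy1 : σ b.y ≠ 0 := fun h0 => hy0 (σ.injective (h0.trans (map_zero σ).symm))
      have k2 := congrArg σ key
      rw [map_mul, map_mul] at k2
      refine (mul_eq_zero.1 (?_ : (b.x * σ (σ b.y) - σ (σ b.x) * b.y) * σ b.y = 0)).resolve_right hy1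
      linear_combination (-σ (σ b.y)) * key + (-b.y) * k2
  rw [cubeForm, this, mul_zero]

/-- The possible orders. -/
theorem orderOf_dvd (h81 : Nat.card K = 81) (g : Grp K) :
    orderOf g ∣ 5 ∨ orderOf g ∣ 9 ∨ orderOf g ∣ 12 := by
  simp only [orderOf_dvd_iff_pow_eq_one]
  have hpow : ∀ n : ℕ, g.right ^ n = 1 → ∃ b : Elt K, g ^ n = SemidirectProduct.inl b ∧
      Commute g (SemidirectProduct.inl b) := by
    intro n hn
    have h1 : (g ^ n).right = 1 := by
      have : (g ^ n).right = g.right ^ n := map_pow (SemidirectProduct.rightHom : Grp K →* _) g n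
      rw [this, hn]
    have h2 : g ^ n = SemidirectProduct.inl (g ^ n).left :=
      SemidirectProduct.ext (by simp) (by simpa using h1)
    exact ⟨_, h2, h2 ▸ Commute.self_pow g n⟩
  by_cases hτ : g.right.right = 1
  · by_cases hu : g.right.left = 1
    · right; left
      obtain ⟨b, hb, -⟩ := hpow 1 (by rw [pow_one]; exact SemidirectProduct.ext hu hτ)
      rw [pow_one] at hb
      rw [hb, ← map_pow, pow_nine, map_one]
    · left
      have hr : g.right ^ 5 = 1 := by
        have e : g.right = SemidirectProduct.inl g.right.left :=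
          SemidirectProduct.ext (by simp) (by simpa using hτ)
        rw [e, ← map_pow]
        have : g.right.left ^ 5 = 1 := Subtype.ext (by
          simpa using (mem_rootsOfUnity 5 (g.right.left : Kˣ)).1 g.right.left.2)
        rw [this, map_one]
      obtain ⟨b, hb, hc⟩ := hpow 5 hr
      rw [hb, eq_one_of_fixed_scalar hτ hu hc, map_one]
  · right; right
    obtain ⟨b, hb, hc⟩ := hpow 4 (pow_four_right h81 g.right hτ)
    rw [show 12 = 4 * 3 from rfl, pow_mul, hb, ← map_pow,
      (pow_three_eq_one_iff b).2 (cubeForm_eq_zero_of_fixed h81 hτ hc), map_one]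

theorem exists_gen (h81 : Nat.card K = 81) : ∃ γ : Kˣ, orderOf γ = 80 := by
  obtain ⟨γ, hγ⟩ := IsCyclic.exists_ofOrder_eq_natCard (α := Kˣ)
  exact ⟨γ, by rw [hγ, Nat.card_units, h81]⟩

theorem exists_orders (h81 : Nat.card K = 81) :
    (∃ g : Grp K, orderOf g = 5) ∧ (∃ g : Grp K, orderOf g = 9) ∧ ∃ g : Grp K, orderOf g = 12 := by
  obtain ⟨γ, hγ⟩ := exists_gen h81
  haveI : Fact (Nat.Prime 5) := ⟨by norm_num⟩
  haveI : Fact (Nat.Prime 3) := ⟨by norm_num⟩
  haveI : Fact (Nat.Prime 2) := ⟨by norm_num⟩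
  have hnot : ∀ n : ℕ, ¬ 80 ∣ n → γ ^ n ≠ 1 := fun n hn e => hn (hγ ▸ orderOf_dvd_of_pow_eq_one e)
  have h80 : γ ^ 80 = 1 := by rw [← hγ]; exact pow_orderOf_eq_one γ
  have hsg : sg K (γ : K) ≠ (γ : K) := by
    intro e
    rw [sg_apply, show (9 : ℕ) = 1 + 8 from rfl, pow_add, pow_one] at e
    refine hnot 8 (by norm_num) (Units.ext ?_)
    rw [Units.val_pow_eq_pow_val, Units.val_one]
    exact mul_left_cancel₀ (Units.ne_zero γ) (by rw [e, mul_one])
  refine ⟨?_, ?_, ?_⟩
  · have hm : γ ^ 16 ∈ U K := by rw [mem_rootsOfUnity, ← pow_mul]; exact h80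
    have ho : orderOf (⟨γ ^ 16, hm⟩ : U K) = 5 := by
      rw [← Subgroup.orderOf_coe]
      exact orderOf_eq_prime (by rw [← pow_mul]; exact h80) (hnot 16 (by norm_num))
    exact ⟨SemidirectProduct.inr (SemidirectProduct.inl ⟨γ ^ 16, hm⟩),
      by rw [orderOf_injective _ SemidirectProduct.inr_injective,
        orderOf_injective _ SemidirectProduct.inl_injective, ho]⟩
  · refine ⟨SemidirectProduct.inl (⟨1, (γ : K), 1, 0, 0, 0, 0, 0⟩ : Elt K), ?_⟩
    rw [orderOf_injective _ SemidirectProduct.inl_injective]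
    have := orderOf_eq_prime_pow (p := 3) (n := 1) (x := (⟨1, (γ : K), 1, 0, 0, 0, 0, 0⟩ : Elt K))
      (by
        rw [pow_one, pow_three_eq_one_iff]
        simp only [cubeForm, map_one, one_mul]
        exact sub_ne_zero.2 hsg) (by norm_num; exact pow_nine _)
    simpa using this
  · let τ : Subgroup.zpowers (fr (K := K)) := ⟨fr, Subgroup.mem_zpowers _⟩
    let x : Grp K := SemidirectProduct.inr (SemidirectProduct.inr τ)
    let b : Elt K := ⟨1, 0, 0, 0, 0, 0, 0, 0⟩
    let y : Grp K := SemidirectProduct.inl b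
    have hx : orderOf x = 4 := by
      rw [orderOf_injective _ SemidirectProduct.inr_injective,
        orderOf_injective _ SemidirectProduct.inr_injective, ← Subgroup.orderOf_coe]
      refine orderOf_eq_prime_pow (p := 2) (n := 1) (fun e => ?_) (fr_pow_four h81)
      refine hnot 8 (by norm_num) (Units.ext ?_)
      have h2 : ((fr (K := K)) ^ 2) (γ : K) = (γ : K) := by rw [show (2 : ℕ) = 2 ^ 1 from rfl, e]; rfl
      rw [fr_pow_apply, show (3 ^ 2 : ℕ) = 1 + 8 from rfl, pow_add, pow_one] at h2
      rw [Units.val_pow_eq_pow_val, Units.val_one]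
      exact mul_left_cancel₀ (Units.ne_zero γ) (by rw [h2, mul_one])
    have hy : orderOf y = 3 := by
      rw [orderOf_injective _ SemidirectProduct.inl_injective]
      refine orderOf_eq_prime ((pow_three_eq_one_iff b).2 (by simp [cubeForm, b])) ?_
      intro e
      exact one_ne_zero (congrArg Elt.x e : (1 : K) = 0)
    have hfix : act (K := K) (SemidirectProduct.inr τ) b = b := by
      rw [act_apply]
      ext <;> simp [scalEquiv, galEquiv, b, τ]
    have hc : Commute x y := by
      show x * y = y * x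
      refine SemidirectProduct.ext ?_ (by simp [x, y])
      simp [x, y, hfix]
    exact ⟨x * y, by rw [hc.orderOf_mul_eq_mul_orderOf_of_coprime (by rw [hx, hy]; norm_num), hx, hy]⟩

theorem solvable : Group.IsSolvable (Grp K) := by
  haveI : Fact (Nat.Prime 3) := ⟨by norm_num⟩
  have hE : IsPGroup 3 (Elt K) := fun a => ⟨2, pow_nine a⟩
  haveI : Group.IsNilpotent (Elt K) := hE.isNilpotent
  haveI : Group.IsSolvable (Subgroup.zpowers (fr (K := K))) :=
    Group.isSolvable_of_comm fun a b => (IsCyclic.isMulCommutative (α := Subgroup.zpowers (fr (K := K)))).is_comm.comm a b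
  have hT : Group.IsSolvable (T K) :=
    Group.isSolvable_of_ker_le_range (SemidirectProduct.inl : U K →* T K) SemidirectProduct.rightHom
      (le_of_eq SemidirectProduct.range_inl_eq_ker_rightHom.symm)
  haveI := hT
  exact Group.isSolvable_of_ker_le_range (SemidirectProduct.inl : Elt K →* Grp K) SemidirectProduct.rightHom
    (le_of_eq SemidirectProduct.range_inl_eq_ker_rightHom.symm)

end Cfsg.Agent.SpectrumPSp
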